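import Cfsg.Agent.Mrg.Omega.NOThreeL.RRed.BFr.Stage
import Cfsg.Agent.Mrg.Omega.NOThreeL.RRed.BFr.HM
import Cfsg.Agent.Mrg.Omega.FrameI


/-!
# NO-3L, box R, one class, letters: the top level is `(C_S(V*), V*)` (abstract part)

`D : Pts M V Pt I` (`V` a sum of natural modules for odd symmetric groups, `M`-irreducible), `Bd S D`; `X ≥ V` elementary
abelian, `M`-invariant, `X ≤ S`, `NoOverM X M`; `S` offends on `X` and PRINCIPLE' holds for `X`.

* `cent_of_two` : two elements acting with the same axis of index 2 in `X` and different centres are an over-offender;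
* `exists_tv` : some `a ∈ S` acts as a transposition of letters, `X = V C_X(a)`;
* `cent_Q` : `C_S(V)` centralises `X`;
* **`le_of`** : `X ≤ V`.
-/

set_option autoImplicit false
set_option linter.unusedSectionVars false

namespace Cfsg.Agent.Omega.NOThreeL.RRed.LevVX

open Subgroup Cfsg Cfsg.Agent.ZN.ChoiceBase
open Cfsg.Agent.ZN (zc)
open Cfsg.Agent.Omega.FFThm (ElemM NoOverM)
open Cfsg.Agent.Omega.NO1.BestOff (Best)
open Cfsg.Agent.Omega.NOThreeL.RRed.BFr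
open Cfsg.Agent.Omega.SQ1.Bau (elem_comm elem_sq)

universe u

variable {G : Type u} [Group G]

/-- three incongruent elements -/
theorem three_mul_card_le [Finite G] {C A : Subgroup G} (h : C ≤ A) {u v : G} (hu : u ∈ A) (hv : v ∈ A) (h1 : u ∉ C)
    (h2 : v ∉ C) (h3 : u⁻¹ * v ∉ C) : 3 * Nat.card C ≤ Nat.card A := by
  have h5 := card_mul_index (C.subgroupOf A)
  rw [Nat.card_congr (subgroupOfEquivOfLe h).toEquiv] at h5
  have i0 : (C.subgroupOf A).index ≠ 0 := index_ne_zero_of_finite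
  have i1 : (C.subgroupOf A).index ≠ 1 := by
    rw [Ne, index_eq_one, subgroupOf_eq_top]
    exact fun h7 => h1 (h7 hu)
  have i2 : (C.subgroupOf A).index ≠ 2 := by
    intro h7
    have h8 := mul_mem_iff_of_index_two h7 (a := (⟨u⁻¹, inv_mem hu⟩ : A)) (b := ⟨v, hv⟩)
    rw [mem_subgroupOf, mem_subgroupOf, mem_subgroupOf] at h8
    apply h3
    have h9 : (u⁻¹ : G) ∈ C ↔ v ∈ C := ⟨fun e => absurd (by simpa using inv_mem e) h1, fun e => absurd e h2⟩
    exact h8.2 h9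
  have h6 : 3 ≤ (C.subgroupOf A).index := by omega
  calc 3 * Nat.card C = Nat.card C * 3 := mul_comm _ _
    _ ≤ Nat.card C * (C.subgroupOf A).index := Nat.mul_le_mul_left _ h6
    _ = _ := h5

section two

variable {M X : Subgroup G}

/-- **An over-offender of order 4.** -/
theorem cent_of_two [Finite G] (no : NoOverM X M) (Xc : ∀ x ∈ X, ∀ y ∈ X, x * y = y * x) (X2 : ∀ x ∈ X, x * x = 1)
    (MX : ∀ m ∈ M, ∀ x ∈ X, m * x * m⁻¹ ∈ X) {c c' : G} (hc : c ∈ X) (c1 : c ≠ 1) (c1' : c' ≠ 1)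
    (cc : c ≠ c') {u u' : G} (hu : u ∈ M) (hu' : u' ∈ M)
    (h1 : ∀ w ∈ X, (u * w * u⁻¹ = w ∧ u' * w * u'⁻¹ = w) ∨ (u * w * u⁻¹ = w * c ∧ u' * w * u'⁻¹ = w * c')) :
    ∀ w ∈ X, u * w = w * u := by
  by_contra hcon
  push Not at hcon
  obtain ⟨w₀, hw₀, hne⟩ := hcon
  have hcw : ∀ (g w : G), g * w * g⁻¹ = w ↔ g * w = w * g := fun g w => by
    rw [mul_inv_eq_iff_eq_mul]
  have h0 : u * w₀ * u⁻¹ = w₀ * c ∧ u' * w₀ * u'⁻¹ = w₀ * c' := (h1 w₀ hw₀).resolve_left fun e => hne ((hcw _ _).1 e.1)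
  set X₀ : Subgroup G := X ⊓ centralizer ({u} : Set G) with hX₀
  have m0 : ∀ w, w ∈ X₀ ↔ w ∈ X ∧ u * w = w * u := fun w => by
    rw [hX₀, mem_inf, mem_centralizer_singleton_iff]
    exact and_congr_right fun _ => eq_comm
  -- `X = X₀ ∪ w₀ X₀`
  have hsplit : ∀ w ∈ X, w ∈ X₀ ∨ w₀⁻¹ * w ∈ X₀ := by
    intro w hw
    rcases h1 w hw with ⟨e, -⟩ | ⟨e, -⟩
    · exact Or.inl ((m0 w).2 ⟨hw, (hcw _ _).1 e⟩)
    · refine Or.inr ((m0 _).2 ⟨mul_mem (inv_mem hw₀) hw, (hcw _ _).1 ?_⟩)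
      have e1 : u * (w₀⁻¹ * w) * u⁻¹ = (u * w₀ * u⁻¹)⁻¹ * (u * w * u⁻¹) := by group
      rw [e1, h0.1, e]
      have e2 := Xc _ (mul_mem (inv_mem hw₀) hw) c hc
      calc (w₀ * c)⁻¹ * (w * c) = c⁻¹ * ((w₀⁻¹ * w) * c) := by group
        _ = w₀⁻¹ * w := by rw [e2]; group
  set A : Subgroup G := M ⊓ centralizer (X₀ : Set G) with hA
  have mA : ∀ g, g ∈ A ↔ g ∈ M ∧ ∀ w ∈ X₀, w * g = g * w := fun g => by
    rw [hA, mem_inf, mem_centralizer_iff]; rfl
  -- the action of `A`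
  have hact : ∀ g ∈ A, w₀⁻¹ * (g * w₀ * g⁻¹) ∈ X₀ := by
    intro g hg
    have hgw : g * w₀ * g⁻¹ ∈ X := MX g ((mA g).1 hg).1 w₀ hw₀
    rcases hsplit _ hgw with h2 | h2
    · exfalso
      have h3 := ((mA _).1 (inv_mem hg)).2 _ h2
      have h4 : w₀ ∈ X₀ := by
        have e : g⁻¹ * (g * w₀ * g⁻¹) * g = w₀ := by group
        rw [← e, ← h3]
        have : g * w₀ * g⁻¹ * g⁻¹ * g = g * w₀ * g⁻¹ := by group
        rwa [this]
      exact hne ((m0 w₀).1 h4).2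
    · exact h2
  -- `A / C_A(X)` is elementary abelian
  have hcent : ∀ g ∈ A, g * w₀ * g⁻¹ = w₀ → g ∈ centralizer (X : Set G) := by
    intro g hg e
    rw [mem_centralizer_iff]
    intro w hw
    rcases hsplit w hw with h2 | h2
    · exact ((mA g).1 hg).2 w h2
    · have h3 := ((mA g).1 hg).2 _ h2
      have h4 := (hcw _ _).1 e
      calc w * g = w₀ * ((w₀⁻¹ * w) * g) := by group
        _ = (w₀ * g) * (w₀⁻¹ * w) := by rw [h3]; group
        _ = g * w := by rw [← h4]; group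
  have hd : ∀ g ∈ A, ∃ d ∈ X₀, g * w₀ * g⁻¹ = w₀ * d := fun g hg => ⟨_, hact g hg, by group⟩
  have hX₀X : X₀ ≤ X := inf_le_left
  have hE : ElemM X A := by
    refine ⟨fun a ha => ?_, fun a ha b hb => ?_⟩
    · refine hcent _ (pow_mem ha 2) ?_
      obtain ⟨d, hd, e⟩ := hd a ha
      have e2 := ((mA a).1 ha).2 d hd
      have e3 := X2 d (hX₀X hd)
      calc a ^ 2 * w₀ * (a ^ 2)⁻¹ = a * (a * w₀ * a⁻¹) * a⁻¹ := by rw [pow_two]; group
        _ = a * (w₀ * d) * a⁻¹ := by rw [e]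
        _ = (a * w₀ * a⁻¹) * (a * d * a⁻¹) := by group
        _ = w₀ * d * (a * d * a⁻¹) := by rw [e]
        _ = w₀ * (d * d) := by rw [← e2]; group
        _ = w₀ := by rw [e3, mul_one]
    · have hb' := inv_mem hb
      have ha' := inv_mem ha
      obtain ⟨d, hd1, e1⟩ := hd a ha
      obtain ⟨f, hf1, f1⟩ := hd b hb
      have ca := ((mA a).1 ha).2 f hf1
      have cb := ((mA b).1 hb).2 d hd1
      have k1 : (a * b) * w₀ * (a * b)⁻¹ = w₀ * d * f := by
        calc (a * b) * w₀ * (a * b)⁻¹ = a * (b * w₀ * b⁻¹) * a⁻¹ := by group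
          _ = (a * w₀ * a⁻¹) * (a * f * a⁻¹) := by rw [f1]; group
          _ = w₀ * d * f := by rw [e1, ← ca]; group
      have k2 : (b * a) * w₀ * (b * a)⁻¹ = w₀ * d * f := by
        calc (b * a) * w₀ * (b * a)⁻¹ = b * (a * w₀ * a⁻¹) * b⁻¹ := by group
          _ = (b * w₀ * b⁻¹) * (b * d * b⁻¹) := by rw [e1]; group
          _ = w₀ * f * d := by rw [f1, ← cb]; group
          _ = w₀ * (f * d) := by group
          _ = w₀ * (d * f) := by rw [Xc f (hX₀X hf1) d (hX₀X hd1)]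
          _ = w₀ * d * f := by group
      refine hcent _ (mul_mem (mul_mem (mul_mem ha hb) (inv_mem ha)) (inv_mem hb)) ?_
      -- `[a,b] = (ab)(ba)⁻¹`
      have e3 : a * b * a⁻¹ * b⁻¹ = (a * b) * (b * a)⁻¹ := by group
      have k3 : (b * a)⁻¹ * (w₀ * d * f) * (b * a) = w₀ := by rw [← k2]; group
      have m1 : a * b ∈ A := mul_mem ha hb
      have m2 : b * a ∈ A := mul_mem hb ha
      have hdf : d * f ∈ X₀ := mul_mem hd1 hf1
      have c1 := ((mA _).1 m1).2 _ hdf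
      have c2 := ((mA _).1 m2).2 _ hdf
      rw [e3]
      -- `(ba)⁻¹ w₀ (ba) = w₀ (d f)⁻¹`
      have k4 : (b * a)⁻¹ * w₀ * (b * a) = w₀ * (d * f)⁻¹ := by
        calc (b * a)⁻¹ * w₀ * (b * a) = (b * a)⁻¹ * (w₀ * d * f) * ((d * f)⁻¹ * (b * a)) := by group
          _ = (b * a)⁻¹ * (w₀ * d * f) * (b * a) * ((b * a)⁻¹ * ((d * f)⁻¹ * (b * a))) := by group
          _ = w₀ * ((b * a)⁻¹ * ((d * f)⁻¹ * (b * a))) := by rw [k3]
          _ = w₀ * ((b * a)⁻¹ * ((b * a)⁻¹⁻¹ * (d * f)⁻¹)) := by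
              have : (d * f)⁻¹ * (b * a) = (b * a) * (d * f)⁻¹ := ((mA _).1 m2).2 _ (inv_mem hdf)
              rw [this, inv_inv]
          _ = w₀ * (d * f)⁻¹ := by group
      calc (a * b) * (b * a)⁻¹ * w₀ * ((a * b) * (b * a)⁻¹)⁻¹
          = (a * b) * ((b * a)⁻¹ * w₀ * (b * a)) * (a * b)⁻¹ := by group
        _ = (a * b) * (w₀ * (d * f)⁻¹) * (a * b)⁻¹ := by rw [k4]
        _ = ((a * b) * w₀ * (a * b)⁻¹) * ((a * b) * (d * f)⁻¹ * (a * b)⁻¹) := by group
        _ = (w₀ * d * f) * ((d * f)⁻¹ * (a * b) * (a * b)⁻¹) := by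
            have : (d * f)⁻¹ * (a * b) = (a * b) * (d * f)⁻¹ := ((mA _).1 m1).2 _ (inv_mem hdf)
            rw [k1, this]
        _ = w₀ := by group
  -- the count
  have uA : u ∈ A := (mA u).2 ⟨hu, fun w hw => ((m0 w).1 hw).2.symm⟩
  have u'A : u' ∈ A := by
    refine (mA u').2 ⟨hu', fun w hw => ?_⟩
    obtain ⟨hwX, hwu⟩ := (m0 w).1 hw
    rcases h1 w hwX with ⟨-, e⟩ | ⟨e, -⟩
    · exact ((hcw _ _).1 e).symm
    · exfalso
      rw [(hcw _ _).2 hwu] at e
      exact c1 (left_eq_mul.1 e)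
  have n1 : u ∉ A ⊓ centralizer (X : Set G) := fun e => hne (mem_centralizer_iff.1 e.2 w₀ hw₀).symm
  have n2 : u' ∉ A ⊓ centralizer (X : Set G) := fun e => by
    have e1 := (hcw u' w₀).2 (mem_centralizer_iff.1 e.2 w₀ hw₀).symm
    rw [h0.2] at e1
    exact c1' (mul_eq_left.1 e1)
  have n3 : u⁻¹ * u' ∉ A ⊓ centralizer (X : Set G) := fun e => by
    have e1 := (hcw (u⁻¹ * u') w₀).2 (mem_centralizer_iff.1 e.2 w₀ hw₀).symm
    have e2 : u' * w₀ * u'⁻¹ = u * w₀ * u⁻¹ := by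
      calc u' * w₀ * u'⁻¹ = u * ((u⁻¹ * u') * w₀ * (u⁻¹ * u')⁻¹) * u⁻¹ := by group
        _ = u * w₀ * u⁻¹ := by rw [e1]
    rw [h0.1, h0.2] at e2
    exact cc (mul_left_cancel e2).symm
  have k1 := three_mul_card_le (inf_le_left : A ⊓ centralizer (X : Set G) ≤ A) uA u'A n1 n2 n3
  have k2 : Nat.card X ≤ 2 * Nat.card ↥(X ⊓ centralizer (A : Set G)) := by
    refine (BFr.card_le_two (F := X₀) (a₀ := w₀) hsplit).trans (Nat.mul_le_mul_left _ (Subgroup.card_le_of_le ?_))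
    refine le_inf hX₀X fun w hw => mem_centralizer_iff.2 fun g hg => (((mA g).1 hg).2 w hw).symm
  have k3 := no A inf_le_left hE
  have p1 : 0 < Nat.card ↥(A ⊓ centralizer (X : Set G)) := Nat.card_pos
  have p2 : 0 < Nat.card ↥(X ⊓ centralizer (A : Set G)) := Nat.card_pos
  have k4 : 3 * Nat.card ↥(A ⊓ centralizer (X : Set G)) * Nat.card ↥(X ⊓ centralizer (A : Set G)) ≤
      2 * Nat.card ↥(X ⊓ centralizer (A : Set G)) * Nat.card ↥(A ⊓ centralizer (X : Set G)) :=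
    (Nat.mul_le_mul_right _ k1).trans (k3.trans (Nat.mul_le_mul_right _ k2))
  nlinarith [Nat.mul_pos p1 p2]

end two

section main

variable {S : Sylow 2 G} {M V : Subgroup G} {Pt I : Type} [Fintype Pt] [DecidableEq Pt] [DecidableEq I]
  (D : Pts M V Pt I) (hb : Bd S D) {X : Subgroup G} (elX : IsElementaryAbelian 2 X) (VX : V ≤ X)
  (MX : M ≤ normalizer (X : Set G))

/-- the action of a transposition -/
theorem act_swap {a : G} {x y : Pt} (hxy : D.blk x = D.blk y) (ha : a ∈ M) (ea : D.r a = Equiv.swap x y) {v : G}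
    (hv : v ∈ V) : a * v * a⁻¹ = v ∨ a * v * a⁻¹ = v * D.pe x y := by
  have hmem : a * v * a⁻¹ ∈ V := D.MV a ha v hv
  have hcoord : ∀ z, D.e (a * v * a⁻¹) z = D.e v (Equiv.swap x y z) := fun z => by
    rw [D.e_conj' ha hv, ea, Equiv.swap_inv]
  by_cases h : D.e v x = D.e v y
  · left
    refine D.ext hmem hv ?_
    funext z
    rw [hcoord]
    by_cases h1 : z = x
    · rw [h1, Equiv.swap_apply_left, h]
    · by_cases h2 : z = y
      · rw [h2, Equiv.swap_apply_right, h]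
      · rw [Equiv.swap_apply_of_ne_of_ne h1 h2]
  · right
    have hz : ∀ s t : ZMod 2, s ≠ t → s + 1 = t := by decide
    refine D.ext hmem (mul_mem hv (D.pe_mem _ _)) ?_
    funext z
    rw [hcoord, D.mul v hv _ (D.pe_mem _ _), Pi.add_apply, D.e_pe' hxy]
    by_cases h1 : z = x
    · subst h1
      have hne : z ≠ y := fun e => h (by rw [e])
      rw [Equiv.swap_apply_left, if_pos rfl, if_neg hne, add_zero, hz _ _ h]
    · by_cases h2 : z = y
      · subst h2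
        rw [Equiv.swap_apply_right, if_neg h1, if_pos rfl, zero_add, hz _ _ (Ne.symm h)]
      · rw [Equiv.swap_apply_of_ne_of_ne h1 h2, if_neg h1, if_neg h2, add_zero, add_zero]

include elX VX in
/-- the action on `X` of a transposition with `X = V C_X(a)` -/
theorem act_X {a : G} {x y : Pt} (hxy : D.blk x = D.blk y) (ea : D.r a = Equiv.swap x y) (hg : Gd D X a) {w : G}
    (hw : w ∈ X) : a * w * a⁻¹ = w ∨ a * w * a⁻¹ = w * D.pe x y := by
  obtain ⟨v, hv, e⟩ := hg.co w hw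
  have e1 : a * w * a⁻¹ = w * v * (a * v * a⁻¹)⁻¹ := by
    calc a * w * a⁻¹ = (a * (w * v)) * a⁻¹ * (a * v * a⁻¹)⁻¹ := by group
      _ = w * v * (a * v * a⁻¹)⁻¹ := by rw [e]; group
  rcases act_swap D hxy hg.aM ea hv with h | h
  · left; rw [e1, h]; group
  · right
    rw [e1, h]
    have h2 : (D.pe x y)⁻¹ = D.pe x y := inv_eq_of_mul_eq_one_right (D.sq (D.pe_mem _ _))
    have h3 := elem_comm elX (D.pe x y) (VX (D.pe_mem _ _)) v (VX hv)
    calc w * v * (v * D.pe x y)⁻¹ = w * (v * (D.pe x y)⁻¹ * v⁻¹) := by group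
      _ = w * D.pe x y := by rw [h2, ← h3]; group

theorem ne_one_pe {x y : Pt} (hxy : D.blk x = D.blk y) (hne : x ≠ y) : D.pe x y ≠ 1 := by
  intro e
  have h1 := D.e_pe' hxy x
  rw [e, D.map_one, if_pos rfl, if_neg hne, add_zero] at h1
  exact zero_ne_one h1

include hb elX VX MX in
/-- **A transposition `a ∈ S` with `X = V C_X(a)`.** -/
theorem exists_tv [Finite G] {H : Subgroup G} (HX : H ≤ normalizer (X : Set G))
    (prin : ∀ FF : Set (Subgroup G), (∀ A ∈ FF, ∀ m ∈ H, cj m A ∈ FF) →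
      (∃ A ∈ FF, A ≤ (S : Subgroup G) ∧ ¬ A ≤ centralizer (X : Set G)) →
        ∃ B ∈ FF, B ≤ (S : Subgroup G) ∧ ¬ B ≤ centralizer (V : Set G))
    (mv : ∃ A ≤ (S : Subgroup G), Best X A ∧ ¬ A ≤ centralizer (X : Set G)) :
    ∃ a ∈ (S : Subgroup G), ∃ x y, x ≠ y ∧ D.blk x = D.blk y ∧ D.r a = Equiv.swap x y ∧ Gd D X a := by
  classical
  have Xc := elem_comm elX
  obtain ⟨A₀, ⟨hA₀S, hA₀b, hA₀X⟩, hmin⟩ := Set.exists_min_image
    {A : Subgroup G | A ≤ (S : Subgroup G) ∧ Best X A ∧ ¬ A ≤ centralizer (X : Set G)}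
    (fun A => (centralizer (X : Set G)).relIndex A) (Set.toFinite _) (by
      obtain ⟨A, h1, h2, h3⟩ := mv
      exact ⟨A, h1, h2, h3⟩)
  set n := (centralizer (X : Set G)).relIndex A₀ with hn
  obtain ⟨B, ⟨hBb, hBX, hBn⟩, hBS, hBV⟩ := prin
    {A | Best X A ∧ ¬ A ≤ centralizer (X : Set G) ∧ (centralizer (X : Set G)).relIndex A = n} (by
      rintro A ⟨h1, h2, h3⟩ m hm
      have hmX := HX hm
      refine ⟨h1.conj hmX, fun h4 => h2 ?_, ?_⟩
      · have h5 := cj_mono m⁻¹ h4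
        rw [cj_inv_cj, cj_centralizer, cj_eq_of_mem_normalizer (inv_mem hmX)] at h5
        exact h5
      · rw [← h3]
        have e : centralizer (X : Set G) = cj m (centralizer (X : Set G)) := by
          rw [cj_centralizer, cj_eq_of_mem_normalizer hmX]
        conv_lhs => rw [e]
        exact relIndex_map_map_of_injective _ _ (MulAut.conj m).injective)
    ⟨A₀, ⟨hA₀b, hA₀X, rfl⟩, hA₀S, hA₀X⟩
  have hBM : B ≤ M := hBS.trans hb.SM
  obtain ⟨b, hbB, x, hx⟩ : ∃ b ∈ B, ∃ x, D.r b x ≠ x := by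
    by_contra hcon
    push Not at hcon
    apply hBV
    intro b hbB
    rw [mem_centralizer_iff]
    intro v hv
    exact ((D.r_eq_one_iff (hBM hbB)).1 (Equiv.ext (hcon b hbB)) v hv).symm
  have hof : Ofd M X B :=
    { AM := hBM, p := S.isPGroup'.to_le hBS, el := hBb.toElemM, best := fun F h1 h2 => hBb.max F h2 h1 }
  obtain ⟨B', hB'B, hof', ⟨a, ha, ea⟩, hall, h1, h2⟩ := Ofd.exists_swap D hof VX Xc hbB rfl hx.symm
  set y := D.r b x with hy
  have hxy : x ≠ y := fun e => hx e.symm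
  have hbk : D.blk x = D.blk y := (Ofd.blk_eq D hof VX Xc hbB x).symm
  have hB'S : B' ≤ (S : Subgroup G) := hB'B.trans hBS
  set F := B' ⊓ centralizer (V : Set G) with hF
  have hCVX : centralizer (X : Set G) ≤ centralizer (V : Set G) := centralizer_le VX
  have haM : a ∈ M := hof'.AM ha
  have haF : a ∉ F := by
    intro e
    have h3 : D.r a = 1 := (D.r_eq_one_iff haM).2 fun v hv => (mem_centralizer_iff.1 e.2 v hv).symm
    rw [ea] at h3
    have h4 := Equiv.congr_fun h3 x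
    rw [Equiv.swap_apply_left] at h4
    exact hxy h4.symm
  have hr1 : ∀ g ∈ B', D.r g = 1 → g ∈ F := fun g hg e =>
    ⟨hg, mem_centralizer_iff.2 fun v hv => ((D.r_eq_one_iff (hof'.AM hg)).1 e v hv).symm⟩
  have c1 : Nat.card B' ≤ 2 * Nat.card F := by
    refine BFr.card_le_two (a₀ := a) fun g hg => ?_
    rcases hall g hg with e | e
    · exact Or.inl (hr1 g hg e)
    · refine Or.inr (hr1 _ (mul_mem (inv_mem ha) hg) ?_)
      rw [D.r_mul (inv_mem haM) (hof'.AM hg), D.r_inv haM, ea, e, inv_mul_cancel]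
  have c2 : 2 * Nat.card ↥(V ⊓ centralizer (B' : Set G)) ≤ Nat.card V := by
    refine two_mul_card_le (lt_of_le_of_ne inf_le_left fun e => haF ⟨ha, mem_centralizer_iff.2 fun v hv => ?_⟩)
    have hv' : v ∈ V ⊓ centralizer (B' : Set G) := by rw [e]; exact hv
    exact (mem_centralizer_iff.1 hv'.2 a ha).symm
  have he : Nat.card B' * Nat.card ↥(V ⊓ centralizer (B' : Set G)) ≤ Nat.card F * Nat.card V := by
    calc Nat.card B' * Nat.card ↥(V ⊓ centralizer (B' : Set G))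
        ≤ 2 * Nat.card F * Nat.card ↥(V ⊓ centralizer (B' : Set G)) := Nat.mul_le_mul_right _ c1
      _ = Nat.card F * (2 * Nat.card ↥(V ⊓ centralizer (B' : Set G))) := by ring
      _ ≤ _ := Nat.mul_le_mul_left _ c2
  have hFb := best_cut' Xc hof'.best VX he
  -- `F` centralises `X`
  have hFX : F ≤ centralizer (X : Set G) := by
    by_contra hcon
    have h3 := hmin F ⟨inf_le_left.trans hB'S, ⟨NO1.BestOff.ElemM.mono hof'.el inf_le_left,
      fun Y hY hYc => hFb Y hYc hY⟩, hcon⟩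
    have h4 : (centralizer (X : Set G)).relIndex B' ≤ n := by
      rw [← hBn]
      exact relIndex_le_of_le_right hB'B (Nat.pos_iff_ne_zero.1 (Nat.pos_of_ne_zero (by
        rw [relIndex]; exact index_ne_zero_of_finite)))
    have h5 : (centralizer (X : Set G)).relIndex F * F.relIndex B' = (centralizer (X : Set G)).relIndex B' := by
      have e1 := relIndex_mul_relIndex (B' ⊓ centralizer (X : Set G)) F B'
        (le_inf inf_le_left (inf_le_right.trans hCVX)) inf_le_left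
      have e2 : (B' ⊓ centralizer (X : Set G)).relIndex F = (centralizer (X : Set G)).relIndex F := by
        rw [← inf_relIndex_right (H := centralizer (X : Set G)), ← inf_relIndex_right (H := B' ⊓ centralizer (X : Set G))]
        congr 1
        apply le_antisymm
        · exact le_inf (inf_le_left.trans inf_le_right) inf_le_right
        · exact le_inf (le_inf (inf_le_right.trans inf_le_left) inf_le_left) inf_le_right
      have e3 : (B' ⊓ centralizer (X : Set G)).relIndex B' = (centralizer (X : Set G)).relIndex B' := by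
        rw [inf_comm, inf_relIndex_right]
      rw [e2, e3] at e1
      exact e1
    have h6 : F.relIndex B' ≠ 1 := fun e => haF ((relIndex_eq_one.1 e) ha)
    have h7 : F.relIndex B' ≠ 0 := by rw [relIndex]; exact index_ne_zero_of_finite
    have h8 : 2 ≤ F.relIndex B' := by omega
    have h9 : 0 < (centralizer (X : Set G)).relIndex F := Nat.pos_of_ne_zero (by
      rw [relIndex]; exact index_ne_zero_of_finite)
    have h10 : (centralizer (X : Set G)).relIndex F * 2 ≤ (centralizer (X : Set G)).relIndex B' := by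
      rw [← h5]; exact Nat.mul_le_mul_left _ h8
    omega
  -- `|X| ≤ 2 |C_X(B')|`
  have h3 := hof'.best F (le_inf inf_le_left (inf_le_right.trans hCVX)) inf_le_left
  have h4 : X ⊓ centralizer (F : Set G) = X := inf_eq_left.2 (le_centralizer_iff.1 hFX)
  rw [h4] at h3
  have h5 : Nat.card X ≤ 2 * Nat.card ↥(X ⊓ centralizer (B' : Set G)) := by
    have p : 0 < Nat.card F := Nat.card_pos
    refine Nat.le_of_mul_le_mul_left ?_ p
    calc Nat.card F * Nat.card X ≤ Nat.card B' * Nat.card ↥(X ⊓ centralizer (B' : Set G)) := h3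
      _ ≤ 2 * Nat.card F * Nat.card ↥(X ⊓ centralizer (B' : Set G)) := Nat.mul_le_mul_right _ c1
      _ = _ := by ring
  refine ⟨a, hB'S ha, x, y, hxy, hbk, ea, haM, fun w hw => ?_⟩
  set C := X ⊓ centralizer (B' : Set G) with hC
  by_cases hwC : w ∈ C
  · exact ⟨1, one_mem _, by rw [mul_one]; exact mem_centralizer_iff.1 hwC.2 a ha⟩
  -- `v₁ ∈ V` moved by `a`
  obtain ⟨v₁, hv₁, hne⟩ : ∃ v₁ ∈ V, a * v₁ ≠ v₁ * a := by
    by_contra hcon
    push Not at hcon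
    exact haF ⟨ha, mem_centralizer_iff.2 fun v hv => (hcon v hv).symm⟩
  have hv₁C : v₁ ∉ C := fun e => hne (mem_centralizer_iff.1 e.2 a ha)
  have i2 : (C.subgroupOf X).index = 2 := by
    have k1 := card_mul_index (C.subgroupOf X)
    rw [Nat.card_congr (subgroupOfEquivOfLe (inf_le_left : C ≤ X)).toEquiv] at k1
    have k2 : (C.subgroupOf X).index ≠ 0 := index_ne_zero_of_finite
    have k3 : (C.subgroupOf X).index ≠ 1 := by
      rw [Ne, index_eq_one, subgroupOf_eq_top]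
      exact fun h7 => hwC (h7 hw)
    have k4 : 0 < Nat.card C := Nat.card_pos
    have k5 : (C.subgroupOf X).index ≤ 2 := by
      refine Nat.le_of_mul_le_mul_left ?_ k4
      rw [k1, mul_comm]
      exact h5
    omega
  have h6 := mul_mem_iff_of_index_two i2 (a := (⟨w, hw⟩ : X)) (b := ⟨v₁, VX hv₁⟩)
  rw [mem_subgroupOf, mem_subgroupOf, mem_subgroupOf] at h6
  have h7 : w * v₁ ∈ C := h6.2 ⟨fun e => absurd e hwC, fun e => absurd e hv₁C⟩
  exact ⟨v₁, hv₁, mem_centralizer_iff.1 h7.2 a ha⟩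

section le

variable [Finite G] (irr : ∀ U : Subgroup G, U ≤ V → M ≤ normalizer (U : Set G) → U ≠ ⊥ → V ≤ U)
  (XS : X ≤ (S : Subgroup G)) (no : NoOverM X M) {a : G} (haS : a ∈ (S : Subgroup G)) {x y : Pt} (hxy : x ≠ y)
  (hbk : D.blk x = D.blk y) (ea : D.r a = Equiv.swap x y) (hg : Gd D X a)

include hb elX VX MX no haS hxy hbk ea hg in
/-- `[a, C_S(V)]` centralises `X` -/
theorem comm_Q {g : G} (hgS : g ∈ (S : Subgroup G)) (hgV : ∀ v ∈ V, g * v = v * g) :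
    ∀ w ∈ X, (a * g * a⁻¹ * g⁻¹) * w = w * (a * g * a⁻¹ * g⁻¹) := by
  have Xc := elem_comm elX
  have X2 : ∀ x ∈ X, x * x = 1 := fun x hx => by rw [← pow_two]; exact elem_sq elX x hx
  have MX' : ∀ m ∈ M, ∀ x ∈ X, m * x * m⁻¹ ∈ X := fun m hm x hx => (mem_normalizer_iff.1 (MX hm) x).1 hx
  obtain ⟨z, hz, hzx, hzy⟩ := D.exists_third x y
  obtain ⟨m, hm, m1, m2⟩ := exists_el₂ D hxy (Ne.symm hzy) hbk (hbk.symm.trans hz.symm) hbk
  set l := m * a * m⁻¹ with hl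
  have haM := hg.aM
  have hgM : g ∈ M := hb.SM hgS
  have hlg : Gd D X l := hg.conj D MX' hm
  have hlM : l ∈ M := hlg.aM
  have el : D.r l = Equiv.swap y z := by
    have h := Equiv.swap_apply_apply (D.r m) x y
    rw [m1, m2] at h
    rw [hl, D.r_mul (mul_mem hm haM) (inv_mem hm), D.r_mul hm haM, D.r_inv hm, ea]
    exact h.symm
  set c := D.pe x y with hc
  have hcV : c ∈ V := D.pe_mem _ _
  have c1 : c ≠ 1 := ne_one_pe D hbk hxy
  have cc2 : c * c = 1 := D.sq hcV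
  -- `l` moves `c`
  have hlc : l * c * l⁻¹ ≠ c := by
    intro e
    have e1 : l * c = c * l := by rwa [mul_inv_eq_iff_eq_mul] at e
    have e2 := (D.comm_iff hlM hcV).1 e1 y
    rw [el, Equiv.swap_apply_left, hc, D.e_pe' hbk, D.e_pe' hbk, if_neg hzx, if_neg hzy, if_neg (Ne.symm hxy),
      if_pos rfl, zero_add, zero_add] at e2
    exact zero_ne_one e2
  have hlc1 : l * c * l⁻¹ ≠ 1 := by
    intro e
    apply c1
    have : c = l⁻¹ * (l * c * l⁻¹) * l := by group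
    rw [this, e]; group
  set u := a * g * a⁻¹ * g⁻¹ with hu
  have huM : u ∈ M := mul_mem (mul_mem (mul_mem haM hgM) (inv_mem haM)) (inv_mem hgM)
  have gc : ∀ v ∈ V, g * v * g⁻¹ = v := fun v hv => by rw [hgV v hv]; group
  have gc' : ∀ v ∈ V, g⁻¹ * v * g = v := fun v hv => by
    have := gc v hv
    calc g⁻¹ * v * g = g⁻¹ * (g * v * g⁻¹) * g := by rw [this]
      _ = v := by group
  -- `u` centralises `V`
  have uV : ∀ v ∈ V, u * v * u⁻¹ = v := by
    intro v hv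
    have h1 : a⁻¹ * v * a ∈ V := by simpa using D.MV a⁻¹ (inv_mem haM) v hv
    calc u * v * u⁻¹ = a * (g * (a⁻¹ * (g⁻¹ * v * g) * a) * g⁻¹) * a⁻¹ := by rw [hu]; group
      _ = a * (g * (a⁻¹ * v * a) * g⁻¹) * a⁻¹ := by rw [gc' v hv]
      _ = a * (a⁻¹ * v * a) * a⁻¹ := by rw [gc _ h1]
      _ = v := by group
  have acta : ∀ w ∈ X, a * w * a⁻¹ = w ∨ a * w * a⁻¹ = w * c := fun w hw => act_X D elX VX hbk ea hg hw
  have ac : a * c * a⁻¹ = c := by
    rcases acta c (VX hcV) with h | h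
    · exact h
    · rw [cc2] at h
      exfalso
      apply c1
      have : c = a⁻¹ * (a * c * a⁻¹) * a := by group
      rw [this, h]; group
  have acta' : ∀ w ∈ X, a⁻¹ * w * a = w ∨ a⁻¹ * w * a = w * c := by
    intro w hw
    have hw' : a⁻¹ * w * a ∈ X := by simpa using MX' a⁻¹ (inv_mem haM) w hw
    have e0 : a * (a⁻¹ * w * a) * a⁻¹ = w := by group
    rcases acta _ hw' with h | h
    · left; rw [e0] at h; exact h.symm
    · right
      rw [e0] at h
      calc a⁻¹ * w * a = (a⁻¹ * w * a * c) * c := by rw [mul_assoc _ c c, cc2, mul_one]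
        _ = w * c := by rw [← h]
  -- `u` acts with centre `c`
  have actu : ∀ w ∈ X, u * w * u⁻¹ = w ∨ u * w * u⁻¹ = w * c := by
    intro w hw
    have h1 : g⁻¹ * w * g ∈ X := by simpa using MX' g⁻¹ (inv_mem hgM) w hw
    have e0 : u * w * u⁻¹ = a * (g * (a⁻¹ * (g⁻¹ * w * g) * a) * g⁻¹) * a⁻¹ := by rw [hu]; group
    rcases acta' _ h1 with h | h
    · have e1 : u * w * u⁻¹ = a * w * a⁻¹ := by
        rw [e0, h]; group
      rw [e1]
      exact acta w hw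
    · have e1 : u * w * u⁻¹ = a * w * a⁻¹ * c := by
        rw [e0, h]
        calc a * (g * (g⁻¹ * w * g * c) * g⁻¹) * a⁻¹ = a * (w * (g * c * g⁻¹)) * a⁻¹ := by group
          _ = a * w * a⁻¹ * (a * c * a⁻¹) := by rw [gc c hcV]; group
          _ = a * w * a⁻¹ * c := by rw [ac]
      rw [e1]
      rcases acta w hw with h2 | h2
      · right; rw [h2]
      · left; rw [h2, mul_assoc, cc2, mul_one]
  refine cent_of_two no Xc X2 MX' (VX hcV) c1 hlc1 (Ne.symm hlc) huM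
    (mul_mem (mul_mem hlM huM) (inv_mem hlM)) (c' := l * c * l⁻¹) (u' := l * u * l⁻¹) fun w hw => ?_
  -- `l⁻¹ w l = w v`
  obtain ⟨v, hv, e⟩ : ∃ v ∈ V, l⁻¹ * w * l = w * v := by
    have h1 := hlg.conj D MX' (inv_mem hlM)
    have h2 := hlg.comm_mem D Xc VX (y := l⁻¹ * w * l) (by simpa using MX' l⁻¹ (inv_mem hlM) w hw)
    have e1 : l * (l⁻¹ * w * l) * l⁻¹ * (l⁻¹ * w * l)⁻¹ = w * (l⁻¹ * w * l)⁻¹ := by group
    rw [e1] at h2
    have h3 := inv_mem h2
    refine ⟨_, h3, ?_⟩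
    have h4 := Xc w hw _ (VX h3)
    rw [h4]
    group
  have e1 : l * u * l⁻¹ * w * (l * u * l⁻¹)⁻¹ = l * (u * (l⁻¹ * w * l) * u⁻¹) * l⁻¹ := by group
  have e2 : u * (w * v) * u⁻¹ = (u * w * u⁻¹) * v := by
    calc u * (w * v) * u⁻¹ = (u * w * u⁻¹) * (u * v * u⁻¹) := by group
      _ = _ := by rw [uV v hv]
  rcases actu w hw with h | h
  · refine Or.inl ⟨h, ?_⟩
    rw [e1, e, e2, h, ← e]; group
  · refine Or.inr ⟨h, ?_⟩
    rw [e1, e, e2, h]
    have h5 := Xc c (VX hcV) v (VX hv)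
    calc l * (w * c * v) * l⁻¹ = l * (w * (c * v)) * l⁻¹ := by group
      _ = l * (w * v * c) * l⁻¹ := by rw [h5]; group
      _ = l * (w * v) * l⁻¹ * (l * c * l⁻¹) := by group
      _ = w * (l * c * l⁻¹) := by rw [← e]; group

include hb elX VX MX irr XS no haS hxy hbk ea hg in
/-- **`C_S(V)` centralises `X`.** -/
theorem cent_Q {g : G} (hgS : g ∈ (S : Subgroup G)) (hgV : ∀ v ∈ V, g * v = v * g) : ∀ w ∈ X, g * w = w * g := by
  have Xc := elem_comm elX
  have X2 : ∀ x ∈ X, x * x = 1 := fun x hx => by rw [← pow_two]; exact elem_sq elX x hx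
  have MX' : ∀ m ∈ M, ∀ x ∈ X, m * x * m⁻¹ ∈ X := fun m hm x hx => (mem_normalizer_iff.1 (MX hm) x).1 hx
  have haM := hg.aM
  -- `[a^m, g]` centralises `X`
  have hcomm : ∀ m ∈ M, ∀ w ∈ X, ((m * a * m⁻¹) * g * (m * a * m⁻¹)⁻¹ * g⁻¹) * w =
      w * ((m * a * m⁻¹) * g * (m * a * m⁻¹)⁻¹ * g⁻¹) := by
    intro m hm w hw
    have h1 : g ∈ (S : Subgroup G) ⊓ centralizer (V : Set G) := ⟨hgS, mem_centralizer_iff.2 fun v hv => (hgV v hv).symm⟩
    have h2 : m⁻¹ * g * m ∈ (S : Subgroup G) ⊓ centralizer (V : Set G) := by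
      have := (mem_normalizer_iff.1 (hb.M_norm (inv_mem hm)) g).1 h1
      simpa using this
    have h3 := comm_Q D hb elX VX MX no haS hxy hbk ea hg h2.1 (fun v hv => (mem_centralizer_iff.1 h2.2 v hv).symm)
      (m⁻¹ * w * m) (by simpa using MX' m⁻¹ (inv_mem hm) w hw)
    calc ((m * a * m⁻¹) * g * (m * a * m⁻¹)⁻¹ * g⁻¹) * w
        = m * ((a * (m⁻¹ * g * m) * a⁻¹ * (m⁻¹ * g * m)⁻¹) * (m⁻¹ * w * m)) * m⁻¹ := by group
      _ = m * ((m⁻¹ * w * m) * (a * (m⁻¹ * g * m) * a⁻¹ * (m⁻¹ * g * m)⁻¹)) * m⁻¹ := by rw [h3]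
      _ = _ := by group
  -- the fixed points of the `a^m`
  let C : Subgroup G :=
    { carrier := {c | c ∈ X ∧ ∀ m ∈ M, (m * a * m⁻¹) * c = c * (m * a * m⁻¹)}
      mul_mem' := by
        rintro b c ⟨hb1, hb2⟩ ⟨hc1, hc2⟩
        refine ⟨mul_mem hb1 hc1, fun m hm => ?_⟩
        calc (m * a * m⁻¹) * (b * c) = ((m * a * m⁻¹) * b) * c := by group
          _ = b * ((m * a * m⁻¹) * c) := by rw [hb2 m hm]; group
          _ = b * c * (m * a * m⁻¹) := by rw [hc2 m hm]; group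
      one_mem' := ⟨one_mem _, fun m _ => by rw [mul_one, one_mul]⟩
      inv_mem' := by
        rintro b ⟨hb1, hb2⟩
        refine ⟨inv_mem hb1, fun m hm => ?_⟩
        have := hb2 m hm
        calc (m * a * m⁻¹) * b⁻¹ = b⁻¹ * (b * (m * a * m⁻¹)) * b⁻¹ := by group
          _ = b⁻¹ * ((m * a * m⁻¹) * b) * b⁻¹ := by rw [this]
          _ = b⁻¹ * (m * a * m⁻¹) := by group }
  have hCM : ∀ n ∈ M, ∀ c ∈ C, n * c * n⁻¹ ∈ C := by
    rintro n hn c ⟨hc1, hc2⟩
    refine ⟨MX' n hn c hc1, fun m hm => ?_⟩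
    have := hc2 (n⁻¹ * m) (mul_mem (inv_mem hn) hm)
    calc (m * a * m⁻¹) * (n * c * n⁻¹) = n * ((n⁻¹ * m * a * (n⁻¹ * m)⁻¹) * c) * n⁻¹ := by group
      _ = n * (c * (n⁻¹ * m * a * (n⁻¹ * m)⁻¹)) * n⁻¹ := by rw [this]
      _ = _ := by group
  have hCX : C ≤ X := fun c hc => hc.1
  have hC1 : C = ⊥ := by
    by_contra hne
    obtain ⟨c, hc, hc1, hcS⟩ := exists_fix_ne S.isPGroup' (fun c hc => X2 c (hCX hc)) hne
      fun s hs c hc => hCM s (hb.SM hs) c hc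
    have hcz : c ∈ zc (S : Subgroup G) := mem_zc.2 ⟨XS (hCX hc), by rw [pow_two]; exact X2 c (hCX hc), hcS⟩
    have h1 : C ⊓ V ≠ ⊥ := fun e => hc1 (by
      have : c ∈ C ⊓ V := ⟨hc, hb.ZV hcz⟩
      rw [e] at this
      exact mem_bot.1 this)
    have h2 : M ≤ normalizer ((C ⊓ V : Subgroup G) : Set G) := by
      intro m hm
      rw [mem_normalizer_iff]
      intro v
      constructor
      · rintro ⟨h3, h4⟩
        exact ⟨hCM m hm v h3, D.MV m hm v h4⟩
      · rintro ⟨h3, h4⟩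
        have e : v = m⁻¹ * (m * v * m⁻¹) * m := by group
        rw [e]
        exact ⟨by simpa using hCM m⁻¹ (inv_mem hm) _ h3, by simpa using D.MV m⁻¹ (inv_mem hm) _ h4⟩
    have h3 := irr (C ⊓ V) inf_le_right h2 h1
    -- `a` centralises `V`
    have h4 : D.r a = 1 := (D.r_eq_one_iff haM).2 fun v hv => by
      have := (h3 hv).1.2 1 (one_mem _)
      simpa using this
    rw [ea] at h4
    have h5 := Equiv.congr_fun h4 x
    rw [Equiv.swap_apply_left] at h5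
    exact hxy h5.symm
  intro w hw
  have hgM : g ∈ M := hb.SM hgS
  have hgw : g * w * g⁻¹ ∈ X := MX' g hgM w hw
  have hd : g * w * g⁻¹ * w⁻¹ ∈ C := by
    refine ⟨mul_mem hgw (inv_mem hw), fun m hm => ?_⟩
    set a' := m * a * m⁻¹ with ha'
    have hg' : Gd D X a' := hg.conj D MX' hm
    have hk := hcomm m hm
    set k := a' * g * a'⁻¹ * g⁻¹ with hkd
    -- `a' w a'⁻¹ = v w`
    have hv := hg'.comm_mem D Xc VX hw
    set v := a' * w * a'⁻¹ * w⁻¹ with hvd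
    have e1 : a' * w * a'⁻¹ = v * w := by rw [hvd]; group
    have e2 : g * v * g⁻¹ = v := by rw [hgV v hv]; group
    have e3 : a' * (g * w * g⁻¹) * a'⁻¹ = v * (g * w * g⁻¹) := by
      have hX2 : v * (g * w * g⁻¹) ∈ X := mul_mem (VX hv) hgw
      calc a' * (g * w * g⁻¹) * a'⁻¹ = k * (g * (a' * w * a'⁻¹) * g⁻¹) * k⁻¹ := by rw [hkd]; group
        _ = k * ((g * v * g⁻¹) * (g * w * g⁻¹)) * k⁻¹ := by rw [e1]; group
        _ = k * (v * (g * w * g⁻¹)) * k⁻¹ := by rw [e2]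
        _ = v * (g * w * g⁻¹) := by rw [hk _ hX2]; group
    have e4 : a' * w⁻¹ * a'⁻¹ = (v * w)⁻¹ := by rw [← e1]; group
    have e5 : a' * (g * w * g⁻¹ * w⁻¹) * a'⁻¹ = g * w * g⁻¹ * w⁻¹ := by
      have h6 := Xc v (VX hv) _ (mul_mem hgw (inv_mem hw))
      calc a' * (g * w * g⁻¹ * w⁻¹) * a'⁻¹ = (a' * (g * w * g⁻¹) * a'⁻¹) * (a' * w⁻¹ * a'⁻¹) := by group
        _ = v * (g * w * g⁻¹) * (v * w)⁻¹ := by rw [e3, e4]
        _ = v * (g * w * g⁻¹ * w⁻¹) * v⁻¹ := by group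
        _ = _ := by rw [h6]; group
    exact mul_inv_eq_iff_eq_mul.1 e5
  rw [hC1, mem_bot] at hd
  have h7 : g * w * g⁻¹ = w := mul_inv_eq_one.1 hd
  exact mul_inv_eq_iff_eq_mul.1 h7

include hb elX VX MX irr XS no haS hxy hbk ea hg in
/-- **`X ≤ V`.** -/
theorem le_of (tr : ∀ x y : Pt, ∃ m ∈ M, D.blk (D.r m x) = D.blk y) : X ≤ V := by
  have Xc := elem_comm elX
  have X2 : ∀ x ∈ X, x * x = 1 := fun x hx => by rw [← pow_two]; exact elem_sq elX x hx
  have MX' : ∀ m ∈ M, ∀ x ∈ X, m * x * m⁻¹ ∈ X := fun m hm x hx => (mem_normalizer_iff.1 (MX hm) x).1 hx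
  have hQ : ∀ g ∈ (S : Subgroup G), (∀ v ∈ V, g * v = v * g) → ∀ w ∈ X, g * w = w * g := fun g h1 h2 =>
    cent_Q D hb elX VX MX irr XS no haS hxy hbk ea hg h1 h2
  refine core D S hb.SM VX Xc X2 MX' (fun k hk hk1 hk2 w hw => ?_) (fun p q hpq hpb => ?_) fun w hw hS => ?_
  · refine comm_of_two D hw (fun k' hk' hp => ?_) (show k ∈ Kr D X from ⟨hk, hk1, hk2⟩)
    obtain ⟨h1, h2, h3⟩ := hk'
    obtain ⟨m, hm, hle⟩ := exists_into S hb.SM hp ((zpowers_le).2 h1)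
    have h4 : m * k' * m⁻¹ ∈ (S : Subgroup G) := hle ⟨k', mem_zpowers k', rfl⟩
    have h5 : ∀ v ∈ V, m * k' * m⁻¹ * v = v * (m * k' * m⁻¹) := by
      refine (D.r_eq_one_iff (mul_mem (mul_mem hm h1) (inv_mem hm))).1 ?_
      rw [D.r_mul (mul_mem hm h1) (inv_mem hm), D.r_mul hm h1, h2, mul_one, D.r_inv hm, mul_inv_cancel]
    have h6 := hQ _ h4 h5 (m * w * m⁻¹) (MX' m hm w hw)
    calc k' * w = m⁻¹ * (m * k' * m⁻¹ * (m * w * m⁻¹)) * m := by group
      _ = m⁻¹ * (m * w * m⁻¹ * (m * k' * m⁻¹)) * m := by rw [h6]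
      _ = w * k' := by group
  · obtain ⟨m₁, hm₁, e₁⟩ := tr x p
    have hne : D.r m₁ x ≠ D.r m₁ y := fun e => hxy ((D.r m₁).injective e)
    obtain ⟨m₂, hm₂, e2, e3⟩ := exists_el₂ D hne hpq (D.r_blk hm₁ hbk) hpb e₁
    have hm := mul_mem hm₂ hm₁
    refine ⟨m₂ * m₁ * a * (m₂ * m₁)⁻¹, hg.conj D MX' hm, ?_⟩
    rw [D.r_mul (mul_mem hm hg.aM) (inv_mem hm), D.r_mul hm hg.aM, D.r_inv hm, ea, ← Equiv.swap_apply_apply,
      D.r_mul hm₂ hm₁, Equiv.Perm.mul_apply, Equiv.Perm.mul_apply, e2, e3]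
  · exact hb.ZV (mem_zc.2 ⟨XS hw, by rw [pow_two]; exact X2 w hw, hS⟩)

end le

include hb elX VX MX in
/-- **`X = V`.** -/
theorem eq_of [Finite G] (irr : ∀ U : Subgroup G, U ≤ V → M ≤ normalizer (U : Set G) → U ≠ ⊥ → V ≤ U)
    (XS : X ≤ (S : Subgroup G)) (no : NoOverM X M) {H : Subgroup G} (HX : H ≤ normalizer (X : Set G))
    (prin : ∀ FF : Set (Subgroup G), (∀ A ∈ FF, ∀ m ∈ H, cj m A ∈ FF) →
      (∃ A ∈ FF, A ≤ (S : Subgroup G) ∧ ¬ A ≤ centralizer (X : Set G)) →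
        ∃ B ∈ FF, B ≤ (S : Subgroup G) ∧ ¬ B ≤ centralizer (V : Set G))
    (mv : ∃ A ≤ (S : Subgroup G), Best X A ∧ ¬ A ≤ centralizer (X : Set G)) : X = V := by
  obtain ⟨a, haS, x, y, hxy, hbk, ea, hg⟩ := exists_tv D hb elX VX MX HX prin mv
  exact le_antisymm (le_of D hb elX VX MX irr XS no haS hxy hbk ea hg (D.tr_of_irr irr)) VX

end main

end Cfsg.Agent.Omega.NOThreeL.RRed.LevVX
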